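import Mathlib
import Cfsg.Agent.Lib.Helper69.BG40.Asm
import Cfsg.Agent.Lib.Helper66.BG40.PKA
import Cfsg.Agent.Lib.Helper71.BG40.PKB
import Cfsg.Agent.Lib.Helper59.BG40.PKB2
import Cfsg.Agent.Lib.Helper71.BG40.PKC
import Cfsg.Agent.Lib.Helper11.BG40.PKD
import Cfsg.Agent.Lib.Helper61.BG40.PKdec
import Cfsg.Agent.Lib.Helper61.BG40.PKea2
import Cfsg.Agent.Lib.Helper61.BG40.PKG3
import Cfsg.Agent.Lib.Helper61.BG40.PKG4
import Cfsg.Agent.Lib.Helper72.BG40.PKI2c2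
import Cfsg.Agent.Lib.Helper29.BG40.PKE
import Cfsg.Agent.Lib.Helper71.BG40.PKEK
import Cfsg.Agent.Lib.Helper47.BG40.PKF
import Cfsg.Agent.Lib.Helper71.BG40.PKG2
import Cfsg.Agent.Lib.Helper11.BG40.PKG5b
import Cfsg.Agent.Lib.Helper80.BG40.PKH
import Cfsg.Agent.Lib.Helper80.BG40.PKI1
import Cfsg.Agent.Lib.Helper80.BG40.PKI2a
import Cfsg.Agent.Lib.Helper11.BG40.PKI2c1
import Cfsg.Agent.Lib.Helper71.BG.WeakCores

/-!
# S1440 (Bender–Glauberman Theorem 15.8), weak form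

`s1440_weak_core`: the statement S1440 with `⁅M, M⁆ ≤ F(M)` in place of `⁅M, M⁆ = F(M)` (this is
what Bender–Glauberman prove, and what S1357 / S1372 / S1383 need), from the frozen statements
S1350, S1353, S1354, S1360, S1375, S1404, S1405, S1412, S1414, S1419, S1420, S1426, S1429, S1430,
S1439 taken as hypotheses.  `s1440_core_of_eq` upgrades it to the frozen S1440 given the missing
inclusion `O_{σ(M)'}(F(M)) ≤ M'` (`PKeq`, open).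
-/

set_option autoImplicit false

namespace Cfsg.Agent.Lib.Helper69.BG40

open Cfsg

universe u

/-- Bender–Glauberman Theorem 15.8 (S1440 with `⁅M, M⁆ ≤ F(M)`). -/
theorem s1440_weak_core {G : Type u} [Group G] [Finite G] (hG : Cfsg.IsMinSimpleOddOrder G)
    (h1350 : type_of% (@Cfsg.CfsgFrozen.S1350 G _ _ hG))
    (h1353 : type_of% (@Cfsg.CfsgFrozen.S1353 G _ _ hG))
    (h1354 : type_of% (@Cfsg.CfsgFrozen.S1354 G _ _ hG))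
    (h1360 : type_of% (@Cfsg.CfsgFrozen.S1360 G _ _ hG))
    (h1375 : type_of% (@Cfsg.CfsgFrozen.S1375 G _ _ hG))
    (h1404 : type_of% (@Cfsg.CfsgFrozen.S1404 G _ _ hG))
    (h1405 : type_of% (@Cfsg.CfsgFrozen.S1405 G _ _ hG))
    (h1412 : type_of% (@Cfsg.CfsgFrozen.S1412 G _ _ hG))
    (h1414 : type_of% (@Cfsg.CfsgFrozen.S1414 G _ _ hG))
    (h1419 : type_of% (@Cfsg.CfsgFrozen.S1419 G _ _ hG))
    (h1420 : type_of% (@Cfsg.CfsgFrozen.S1420 G _ _ hG))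
    (h1426 : type_of% (@Cfsg.CfsgFrozen.S1426 G _ _ hG))
    (h1429 : type_of% (@Cfsg.CfsgFrozen.S1429 G _ _ hG))
    (h1430 : type_of% (@Cfsg.CfsgFrozen.S1430 G _ _ hG))
    (h1439 : type_of% (@Cfsg.CfsgFrozen.S1439 G _ _ hG)) :
    Cfsg.Agent.Lib.Helper71.BGW.S1440Weak G :=
  fun M hM K U hKU g hg hX =>
    weak_of_packages.{u} Cfsg.Agent.Lib.Helper66.BG40.pkA Cfsg.Agent.Lib.Helper71.BG40.pkB
      Cfsg.Agent.Lib.Helper59.BG40.pkB2 Cfsg.Agent.Lib.Helper71.BG40.pkC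
      Cfsg.Agent.Lib.Helper11.BG40.pkD Cfsg.Agent.Lib.Helper61.BG40.pkDec
      Cfsg.Agent.Lib.Helper61.BG40.pkDecU Cfsg.Agent.Lib.Helper61.BG40.pkT
      Cfsg.Agent.Lib.Helper61.BG40.pkEa2 Cfsg.Agent.Lib.Helper61.BG40.pkG3
      Cfsg.Agent.Lib.Helper61.BG40.pkG4 Cfsg.Agent.Lib.Helper61.BG40.pkG5c
      Cfsg.Agent.Lib.Helper61.BG40.pkI0 Cfsg.Agent.Lib.Helper72.BG40.pkI2c2
      Cfsg.Agent.Lib.Helper29.BG40.pkE Cfsg.Agent.Lib.Helper71.BG40.pkEK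
      Cfsg.Agent.Lib.Helper47.BG40.pkF Cfsg.Agent.Lib.Helper29.BG40.pkG1
      Cfsg.Agent.Lib.Helper71.BG40.pkG2 Cfsg.Agent.Lib.Helper11.BG40.pkG5b
      Cfsg.Agent.Lib.Helper80.BG40.pkH Cfsg.Agent.Lib.Helper80.BG40.pkI1
      Cfsg.Agent.Lib.Helper80.BG40.pkI2a Cfsg.Agent.Lib.Helper11.BG40.pkI2c1
      hG h1350 h1353 h1354 h1360 h1375 h1404 h1405 h1412 h1414 h1419 h1420 h1426 h1429 h1430
      h1439 M hM K U hKU g hg hX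

/-- The frozen S1440 from the weak form and the (open) inclusion `O_{σ(M)'}(F(M)) ≤ M'`. -/
theorem s1440_core_of_eq (hEq : PKeq.{u}) {G : Type u} [Group G] [Finite G]
    (hG : Cfsg.IsMinSimpleOddOrder G) (hw : Cfsg.Agent.Lib.Helper71.BGW.S1440Weak G)
    (h1426 : type_of% (@Cfsg.CfsgFrozen.S1426 G _ _ hG))
    (M : Subgroup G) (hM : IsCoatom M) (K U : Subgroup G)
    (hKU : Cfsg.IsSigmaDecomposition M K U) (g : G) (hg : g ∉ M)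
    (hX : Cfsg.fittingOf M ⊓ (Cfsg.fittingOf M).map (MulAut.conj g).toMonoidHom ≠ ⊥) :
    (Cfsg.fittingOf M ⊓ (Cfsg.fittingOf M).map (MulAut.conj g).toMonoidHom ≤ Cfsg.fittingHallOf M ∧ IsCyclic ↥(Cfsg.fittingOf M ⊓ (Cfsg.fittingOf M).map (MulAut.conj g).toMonoidHom)) ∧
      (⁅M, M⁆ = Cfsg.fittingOf M ∧ Cfsg.fittingOf M = Cfsg.sigmaCore M ⊔ Cfsg.piCoreOf {q | q.Prime ∧ q ∉ Cfsg.sigma M} (Cfsg.fittingOf M)) ∧
      ((K = ⊥ ∧ IsMulCommutative (Cfsg.fittingHallOf M) ∧ Cfsg.RankLE 2 (Cfsg.fittingHallOf M) ∧ ¬ Cfsg.RankLE 1 (Cfsg.fittingHallOf M)) ∨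
       (∃ p : ℕ, p.Prime ∧ Nat.card ↥(Cfsg.fittingOf M ⊓ (Cfsg.fittingOf M).map (MulAut.conj g).toMonoidHom) = p ∧ p ∈ Cfsg.sigma M ∧ p ∉ Cfsg.beta M ∧
          ¬ IsMulCommutative (Cfsg.pCore p ↥(Cfsg.fittingHallOf M)) ∧ IsCyclic (Cfsg.pPrimeCore p ↥(Cfsg.fittingHallOf M)) ∧
          ∀ q : ℕ, q.Prime → q ∣ Nat.card (Cfsg.fittingHallOf M) → Monoid.exponent (↥M ⧸ Cfsg.fittingHall ↥M) ∣ q - 1) ∨
       (∃ p : ℕ, p.Prime ∧ Nat.card ↥(Cfsg.fittingOf M ⊓ (Cfsg.fittingOf M).map (MulAut.conj g).toMonoidHom) = p ∧ p ∈ Cfsg.sigma M ∧ p ∉ Cfsg.beta M ∧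
          IsCyclic (Cfsg.pPrimeCore p ↥(Cfsg.fittingHallOf M)) ∧ Nat.card (Cfsg.pCore p ↥(Cfsg.fittingHallOf M)) = p ^ 3 ∧
          ¬ IsMulCommutative (Cfsg.pCore p ↥(Cfsg.fittingHallOf M)) ∧ K ≠ ⊥ ∧ U = ⊥ ∧ (Cfsg.fittingHallOf M).relIndex M ∣ p + 1)) := by
  obtain ⟨h1, ⟨h2, h3⟩, h4⟩ := hw M hM K U hKU g hg hX
  refine ⟨h1, ⟨le_antisymm h2 ?_, h3⟩, h4⟩
  have hY := hEq hG M hM K U hKU g hg hX
  have hc := Cfsg.Agent.Lib.Helper57.BG.isComplIn_sup_of_sigmaDecomposition hKU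
  have hσ : sigmaCore M ≤ ⁅M, M⁆ := by
    have h := (h1426 M hM (K ⊔ U) hc).2.1
    rw [← h]
    exact Subgroup.commutator_mono (Cfsg.Agent.Lib.Helper67.BG.sigmaCore_le M) hc.1
  rw [h3]
  exact sup_le hσ hY

end Cfsg.Agent.Lib.Helper69.BG40
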